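import Cfsg.Agent.MQ.S.Co1.Base
import Cfsg.Agent.H956.Co1P.Dat
import Cfsg.Agent.H800.Co.C7_mg
import Cfsg.Agent.BpSevenCo.Conj
import Cfsg.Agent.MQ.S.Co1.Five
import Cfsg.Agent.MQ.S.M1113.Dat
import Cfsg.Agent.MQ.S.M35.Loc
import Cfsg.Agent.R04.ONThree
import Cfsg.Agent.Lib.FinFast
import Cfsg.Agent.FastGrp
import Cfsg.Agent.Prune
set_option linter.all false
prune_inst 0x7f00000000000000000000000000000000000000000000000000000000000000000000000000000000000000000000000000000000000000000000000000000000000000000000000000000000000000003fffffffffffffffffffffffffffbeffbdffffffff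
open scoped Cfsg.Agent.FastGrp

-- part: MO/S/Co1/Three
section
/-!
# MO : `Co1` and `2.Co1`, `p = 3` (helper74)

The normaliser of the Sylow subgroup `P` of order `3 ^ 9` is `P : 2 ^ 3`.
-/

set_option autoImplicit false

namespace Cfsg.Agent.MO.S.Co1.Three

open Cfsg Subgroup Cfsg.Agent.MO.S.Up Cfsg.Agent.H776.Co Cfsg.Agent.H776.Co.P Cfsg.Agent.H956.Co1P Cfsg.Agent.H587.CoC6
open scoped commutatorElement

/-- the commutator factor group -/
abbrev W : Type := ZMod 3 × ZMod 3 × ZMod 3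

/-- the coordinates -/
def π (x : P) : W := (x.a, x.b, x.m33)

/-- the signs -/
def A (i : Fin 3) (v : W) : W := ![(1, 1, -1), (-1, 1, 1), (1, -1, 1)] i * v

/-- the words -/
def L : List (List (Fin 3)) := [[], [0], [1], [2], [0, 1], [0, 2], [1, 2], [0, 1, 2]]

/-- the vectors -/
def LV : List W := [0, 1, 2] ×ˢ ([0, 1, 2] ×ˢ [0, 1, 2])

theorem tor_act {a b c : ZMod 3} (ha : a ^ 2 = 1) (hb : b ^ 2 = 1) {g : ℕ}
    (h : ∀ i, H956.Co1P.chk (tor a b c) g i = true) (x : P) :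
    dat.hom (tor a b c x) = e g * dat.hom x * (e g)⁻¹ :=
  agree (R := ⊤) (fun x _ y _ => tor_mul ha hb x y) (e g) (fun i _ => chk_spec (h i)) trivial trivial trivial trivial trivial
    trivial (Or.inr trivial) (Or.inr trivial) (Or.inr trivial)

theorem mod : Mod 3 dat.hom π (fun i : Fin 3 => e (i.val + 10)) A where
  inj := dat.injective
  pg := isPGroup_P
  add _ _ := rfl
  surj v := ⟨⟨v.1, v.2.1, 0, 0, 0, 0, 0, 0, v.2.2⟩, rfl⟩
  ker x h := by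
    have hc : ∀ x y : P, ⁅x, y⁆ ∈ _root_.commutator P := fun x y => commutator_mem_commutator (mem_top x) (mem_top y)
    rw [phi_eq (x := x) (congrArg Prod.fst h) (congrArg (·.2.1) h) (congrArg (·.2.2) h)]
    exact mul_mem (mul_mem (hc _ _) (hc _ _)) (hc _ _)
  act
    | 0, x => ⟨_, tor_act (by decide) (by decide) c_10 x, rfl⟩
    | 1, x => ⟨_, tor_act (by decide) (by decide) c_11 x, rfl⟩
    | 2, x => ⟨_, tor_act (a := 1) (b := -1) (by decide) (by decide) c_12 x, rfl⟩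

theorem sgn : ∀ a b c : ZMod 3, a ^ 2 = 1 → b ^ 2 = 1 → c ^ 2 = 1 → ∃ w ∈ L, ∀ v : W, act A w v = (a, b, c) * v := by
  decide +kernel

private noncomputable def _root_.Cfsg.Agent.LsF.f16d2d8_2 : {f // @Cfsg.Agent.TAB.Eng.Dat.ord = f} := ⟨_, by first | (delta Cfsg.Agent.TAB.Eng.Dat.ord; rewrite [Cfsg.Agent.LsF.getD_eq]; exact rfl) | exact rfl⟩
private noncomputable def _root_.Cfsg.Agent.LsF.f16d2d8_3 : {f // @Cfsg.Agent.TAB.Eng.Dat.cnt = f} := ⟨_, by first | (delta Cfsg.Agent.TAB.Eng.Dat.cnt; rewrite [Cfsg.Agent.LsF.getD_eq]; exact rfl) | exact rfl⟩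
private noncomputable def _root_.Cfsg.Agent.LsF.f16d2d8_4 : {f // @Cfsg.Agent.MO.S.Up.okCent = f} := ⟨_, by first | (delta Cfsg.Agent.MO.S.Up.okCent; rewrite [Cfsg.Agent.LsF.f16d2d8_2.2, Cfsg.Agent.LsF.f16d2d8_3.2, Cfsg.Agent.LsF.nmul_pat, Cfsg.Agent.LsF.nmod_pat, Cfsg.Agent.LsF.nbeq_pat, Cfsg.Agent.LsF.nbne_pat, Cfsg.Agent.LsF.and_eq, Cfsg.Agent.LsF.or_eq, Cfsg.Agent.LsF.decLe_eq, Cfsg.Agent.LsF.all_eq, Cfsg.Agent.LsF.any_eq, Cfsg.Agent.LsF.range_eq, Cfsg.Agent.LsF.decide_eq]; exact rfl) | exact rfl⟩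
private noncomputable def _root_.Cfsg.Agent.LsF.f16d2d8_0 : {f // @Cfsg.Agent.MO.S.Up.act = f} := ⟨_, by first | (delta Cfsg.Agent.MO.S.Up.act; rewrite [Cfsg.Agent.LsF.foldr_eq]; exact rfl) | exact rfl⟩
private noncomputable def _root_.Cfsg.Agent.LsF.f16d2d8_5 : {f // @Cfsg.Agent.MO.S.Up.cnt = f} := ⟨_, by first | (delta Cfsg.Agent.MO.S.Up.cnt; rewrite [Cfsg.Agent.LsF.f16d2d8_0.2, Cfsg.Agent.LsF.map_eq, Cfsg.Agent.LsF.sum_eq, Cfsg.Agent.LsF.dAnd_eq, Cfsg.Agent.LsF.dBAll_eq, Cfsg.Agent.LsF.ite_eq]; exact rfl) | exact rfl⟩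
private noncomputable def _root_.Cfsg.Agent.LsF.f16d2d8_1 : {f // @Cfsg.Agent.MO.S.Co1.Three.A = f} := ⟨_, by first | (delta Cfsg.Agent.MO.S.Co1.Three.A; rewrite [Cfsg.Agent.LsF.zneg_pat, Cfsg.Agent.LsF.vecCons_eq, Cfsg.Agent.LsF.instZMul_pat]; exact rfl) | exact rfl⟩
private noncomputable def _root_.Cfsg.Agent.LsF.f16d2d8_6 : {f // @Cfsg.Agent.CoOneType.CoEval.eqL = f} := ⟨_, by first | (delta Cfsg.Agent.CoOneType.CoEval.eqL List.brecOn List.brecOn.go Cfsg.Agent.CoOneType.CoEval.eqL._f; rewrite [Cfsg.Agent.LsF.and_eq, Cfsg.Agent.LsF.instIDecEq_eq, Cfsg.Agent.LsF.decide_eq]; (try delta Cfsg.Agent.CoOneType.CoEval.eqL.match_1); (try delta Cfsg.Agent.CoOneType.CoEval.eqL._sparseCasesOn_1); (try delta Cfsg.Agent.CoOneType.CoEval.eqL._sparseCasesOn_2); (try delta List.casesOn); first | dsimp -zeta only | exact rfl) | exact rfl⟩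
private noncomputable def _root_.Cfsg.Agent.LsF.f16d2d8_7 : {f // @Cfsg.Agent.CoOneType.CoFast.dotZ = f} := ⟨_, by first | (delta Cfsg.Agent.CoOneType.CoFast.dotZ List.brecOn List.brecOn.go Cfsg.Agent.CoOneType.CoFast.dotZ._f; rewrite [Cfsg.Agent.LsF.iadd_pat, Cfsg.Agent.LsF.imul_pat]; (try delta Cfsg.Agent.CoOneType.CoFast.dotZ.match_4); (try delta Cfsg.Agent.CoOneType.CoFast.dotZ._sparseCasesOn_4); (try delta Cfsg.Agent.CoOneType.CoFast.dotZ.match_1); (try delta Cfsg.Agent.CoOneType.CoFast.dotZ._sparseCasesOn_1); (try rewrite [Cfsg.Agent.LsF.instDecEq_eq, Cfsg.Agent.LsF.dite_eq]); first | dsimp -zeta only | exact rfl) | exact rfl⟩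
private noncomputable def _root_.Cfsg.Agent.LsF.f16d2d8_8 : {f // @Cfsg.Agent.LThreeCo1.Ev.apZ = f} := ⟨_, by first | (delta Cfsg.Agent.LThreeCo1.Ev.apZ; rewrite [Cfsg.Agent.LsF.f16d2d8_7.2, Cfsg.Agent.LsF.map_eq]; exact rfl) | exact rfl⟩
private noncomputable def _root_.Cfsg.Agent.LsF.f16d2d8_9 : {f // @Cfsg.Agent.LThreeCo1.Ev.foldZ = f} := ⟨_, by first | (delta Cfsg.Agent.LThreeCo1.Ev.foldZ; rewrite [Cfsg.Agent.LsF.f16d2d8_8.2, Cfsg.Agent.LsF.foldr_eq]; exact rfl) | exact rfl⟩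
private noncomputable def _root_.Cfsg.Agent.LsF.f16d2d8_10 : {f // @Cfsg.Agent.CoOneType.CoEval.betaL = f} := ⟨_, by first | (delta Cfsg.Agent.CoOneType.CoEval.betaL; rewrite [Cfsg.Agent.LsF.imul_pat, Cfsg.Agent.LsF.map_eq, Cfsg.Agent.LsF.range_eq]; exact rfl) | exact rfl⟩
private noncomputable def _root_.Cfsg.Agent.LsF.f16d2d8_11 : {f // @Cfsg.Agent.LThreeCo1.Ev.eqB = f} := ⟨_, by first | (delta Cfsg.Agent.LThreeCo1.Ev.eqB; rewrite [Cfsg.Agent.LsF.f16d2d8_6.2, Cfsg.Agent.LsF.f16d2d8_9.2, Cfsg.Agent.LsF.f16d2d8_10.2]; exact rfl) | exact rfl⟩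
private noncomputable def _root_.Cfsg.Agent.LsF.f16d2d8_12 : {f // @Cfsg.Agent.MO.S.Co1.okL = f} := ⟨_, by first | (delta Cfsg.Agent.MO.S.Co1.okL; rewrite [Cfsg.Agent.LsF.f16d2d8_11.2, Cfsg.Agent.LsF.f16d2d8_0.2, Cfsg.Agent.LsF.all_eq, Cfsg.Agent.LsF.map_eq, Cfsg.Agent.LsF.find?_eq, Cfsg.Agent.LsF.ogetD_eq, Cfsg.Agent.LsF.dListEq_eq, Cfsg.Agent.LsF.decide_eq]; exact rfl) | exact rfl⟩
private noncomputable def _root_.Cfsg.Agent.LsF.f16d2d8_13 : {f // @Cfsg.Agent.H956.Co1P.M = f} := ⟨_, by first | (delta Cfsg.Agent.H956.Co1P.M; (try delta Cfsg.Agent.H956.Co1P.M.match_1); (try rewrite [Cfsg.Agent.LsF.instDecEq_eq, Cfsg.Agent.LsF.dite_eq]); exact rfl) | exact rfl⟩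
theorem rows : SmC 3 1 Spor.Co1 ∧ SmC 3 2 Spor.Co1 := by
  have := H68.CoMdl.finite_co1
  refine Co1.rows rep (l := fun i : Fin 3 => i.val + 10) mod card_P (o := 211236945920000) (by norm_num) (by norm_num)
    (by ((try (rewrite [Cfsg.Agent.LsF.f16d2d8_4.2, Cfsg.Agent.LsF.npow_pat])); decide +kernel)) (L := L) (fun Q hQ hC m => m.cover' Q hQ hC fun _ α h1 h2 _ => ?_)
    (E := [(1, 0, 0), (0, 1, 0), (0, 0, 1)]) (LV := LV) (by decide +kernel) (by decide +kernel) (by decide +kernel)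
    (by decide) (by (refine of_decide_eq_true ?_; (try (rewrite [Cfsg.Agent.LsF.f16d2d8_5.2, Cfsg.Agent.LsF.f16d2d8_1.2, Cfsg.Agent.LsF.nmul_pat, Cfsg.Agent.LsF.zdecEq_eq, Cfsg.Agent.LsF.dProdEq_eq, Cfsg.Agent.LsF.instDecEq_eq, Cfsg.Agent.LsF.length_eq, Cfsg.Agent.LsF.decide_eq])); decide +kernel)) (by decide) (by (refine of_decide_eq_true ?_; (try (rewrite [Cfsg.Agent.LsF.f16d2d8_12.2, Cfsg.Agent.LsF.f16d2d8_13.2, Cfsg.Agent.LsF.f16d2d8_1.2, Cfsg.Agent.LsF.nadd_pat, Cfsg.Agent.LsF.zdecEq_eq, Cfsg.Agent.LsF.dProdEq_eq, Cfsg.Agent.LsF.dBoolEq_eq, Cfsg.Agent.LsF.dForallFin_eq, Cfsg.Agent.LsF.decide_eq])); decide +kernel)) gk3 (by decide +kernel)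
  obtain ⟨-, -, -, a, b, c, ha, hb, hc, h3⟩ := aut_P h1 h2
  exact (sgn a b c ha hb hc).imp fun w hw =>
    ⟨hw.1, fun x => (hw.2 _).trans (Prod.ext (h3 x).1.symm (Prod.ext (h3 x).2.1.symm (h3 x).2.2.symm))⟩

end Cfsg.Agent.MO.S.Co1.Three
end

-- part: MO/S/Co1/Seven
section
/-!
# MO : `Co1` and `2.Co1`, `p = 7` (helper74)

The normaliser of the Sylow subgroup is `7 ^ 2 : (3 × SL₂(3))`.
-/

set_option autoImplicit false

namespace Cfsg.Agent.MO.S.Co1.Seven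

open Cfsg Subgroup Cfsg.Agent.MO.S.Up Cfsg.Agent.LThreeCo1.Ev Cfsg.Agent.BpSevenCo.Data
open Cfsg.Agent.BpSevenCo.Conj (NF not_nf fr_x nf_y)
open Cfsg.Agent.CoOneType.CoOneE (pr)

/-- the Sylow subgroup -/
abbrev W : Type := ZMod 7 × ZMod 7

theorem pow_val_add {G : Type} [Group G] {x : G} (hx : x ^ 7 = 1) (s t : ZMod 7) : x ^ (s + t).val = x ^ s.val * x ^ t.val := by
  rw [← pow_add, ZMod.val_add, ← pow_eq_pow_mod _ hx]

/-- the embedding -/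
noncomputable def F : Multiplicative W →* Co0 :=
  MonoidHom.mk' (fun v => x0 ^ v.toAdd.1.val * y0 ^ v.toAdd.2.val) fun u v => by
    rw [toAdd_mul, Prod.fst_add, Prod.snd_add, pow_val_add x0_pow, pow_val_add y0_pow]
    exact ((show Commute x0 y0 from xy).pow_pow _ _).mul_mul_mul_comm _ _

/-- an element of order twelve -/
def nG : ℕ := 0x741d474a1284250839d28421084a527425094a0e84250849d28421483a4e84a12841d09398e9421074a5274210741d074a0e841d4849ce84210839d29425074a0e841d083a52a421083a52941d074a12a425084a5284210839ce7425073a12841d0839d284210a39ce7425074a12851d084a4e8421084a4e83a12841d074a0e7421073a4e7321083a0e6425073a0e94210739d27421083a0e8425094a127321074a52742109425073a1284250849ce8521083a5263a0e841d093a0e74210949ce742108398e841d074a0e9421094a52942107425094a1284250a3a4e84210839d284a0e8425094a0e9419093a4e74210751d073a0e8425083a4e8421083a4e84a128425074a0e74210949d27419083a128425073a129421094a4e7420c83a128425093a0e7420c93a52942107425073a0e8425084a5284290849d2741d093a92841d084a528421083a5283a12831d094a1294210939d27421083a128424c94a0e94210749ce94210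

private noncomputable def _root_.Cfsg.Agent.LsF.f16d2d8_14 : {f // @Cfsg.Agent.CoOneType.CoFast.eqM.eqR = f} := ⟨_, by first | (delta Cfsg.Agent.CoOneType.CoFast.eqM.eqR List.brecOn List.brecOn.go Cfsg.Agent.CoOneType.CoFast.eqM.eqR._f; rewrite [Cfsg.Agent.LsF.and_eq, Cfsg.Agent.LsF.instIDecEq_eq, Cfsg.Agent.LsF.decide_eq]; (try delta Cfsg.Agent.CoOneType.CoFast.eqM.eqR.match_1); (try delta Cfsg.Agent.CoOneType.CoFast.eqM.eqR._sparseCasesOn_1); (try delta Cfsg.Agent.CoOneType.CoFast.dotZ._sparseCasesOn_4); (try delta List.casesOn); first | dsimp -zeta only | exact rfl) | exact rfl⟩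
private noncomputable def _root_.Cfsg.Agent.LsF.f16d2d8_15 : {f // @Cfsg.Agent.CoOneType.CoFast.hd = f} := ⟨_, by first | (delta Cfsg.Agent.CoOneType.CoFast.hd; rewrite [Cfsg.Agent.LsF.map_eq, Cfsg.Agent.LsF.headD_eq]; exact rfl) | exact rfl⟩
private noncomputable def _root_.Cfsg.Agent.LsF.f16d2d8_16 : {f // @Cfsg.Agent.CoOneType.CoFast.tl = f} := ⟨_, by first | (delta Cfsg.Agent.CoOneType.CoFast.tl; rewrite [Cfsg.Agent.LsF.map_eq, Cfsg.Agent.LsF.tail_eq]; exact rfl) | exact rfl⟩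
private noncomputable def _root_.Cfsg.Agent.LsF.f16d2d8_17 : {f // @Cfsg.Agent.CoOneType.CoFast.trZ = f} := ⟨_, by first | (delta Cfsg.Agent.CoOneType.CoFast.trZ List.brecOn Cfsg.Agent.CoOneType.CoFast.trZ._f List.brecOn.go; rewrite [Cfsg.Agent.LsF.f16d2d8_14.2, Cfsg.Agent.LsF.f16d2d8_15.2, Cfsg.Agent.LsF.f16d2d8_16.2, Cfsg.Agent.LsF.and_eq]; (try delta Cfsg.Agent.CoOneType.CoFast.trZ.match_1); (try delta List.casesOn); first | dsimp -zeta only | exact rfl) | exact rfl⟩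
private noncomputable def _root_.Cfsg.Agent.LsF.f16d2d8_18 : {f // @Cfsg.Agent.MOCo.Q5.okq = f} := ⟨_, by first | (delta Cfsg.Agent.MOCo.Q5.okq; rewrite [Cfsg.Agent.LsF.f16d2d8_17.2, Cfsg.Agent.LsF.and_eq, Cfsg.Agent.LsF.length_eq]; exact rfl) | exact rfl⟩
private noncomputable def _root_.Cfsg.Agent.LsF.f16d2d8_19 : {f // @Int.subNatNat = f} := ⟨_, by first | (delta Int.subNatNat; rewrite [Cfsg.Agent.LsF.nsub_pat]; (try delta Int.negOfNat.match_1); (try delta Nat.casesOn); exact rfl) | exact rfl⟩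
private noncomputable def _root_.Cfsg.Agent.LsF.f16d2d8_20 : {f // @Cfsg.Agent.LThreeCo1.Ev.decRow = f} := ⟨_, by first | (delta Cfsg.Agent.LThreeCo1.Ev.decRow Nat.brecOn.go Nat.brecOn Cfsg.Agent.LThreeCo1.Ev.decRow._f; rewrite [Cfsg.Agent.LsF.f16d2d8_19.2, Cfsg.Agent.LsF.ndiv_pat, Cfsg.Agent.LsF.nmod_pat]; (try delta Cfsg.Agent.LThreeCo1.Ev.decRow.match_1); (try delta Nat.casesOn); first | dsimp -zeta only | exact rfl) | exact rfl⟩
private noncomputable def _root_.Cfsg.Agent.LsF.f16d2d8_21 : {f // @Cfsg.Agent.LThreeCo1.Ev.decRows = f} := ⟨_, by first | (delta Cfsg.Agent.LThreeCo1.Ev.decRows Nat.brecOn.go Cfsg.Agent.LThreeCo1.Ev.decRows._f Nat.brecOn; rewrite [Cfsg.Agent.LsF.f16d2d8_20.2, Cfsg.Agent.LsF.ndiv_pat, Cfsg.Agent.LsF.nmod_pat, Cfsg.Agent.LsF.npow_pat]; (try delta Cfsg.Agent.LThreeCo1.Ev.decRow.match_1); (try delta Nat.casesOn); first | dsimp -zeta only | exact rfl) | exact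 rfl⟩
private noncomputable def _root_.Cfsg.Agent.LsF.f16d2d8_22 : {f // @Cfsg.Agent.LThreeCo1.Ev.dec = f} := ⟨_, by first | (delta Cfsg.Agent.LThreeCo1.Ev.dec; rewrite [Cfsg.Agent.LsF.f16d2d8_21.2]; exact rfl) | exact rfl⟩
private noncomputable def _root_.Cfsg.Agent.LsF.f16d2d8_23 : {f // @Cfsg.Agent.LThreeCo1.Ev.trAux = f} := ⟨_, by first | (delta Cfsg.Agent.LThreeCo1.Ev.trAux Nat.brecOn.go Nat.brecOn Cfsg.Agent.LThreeCo1.Ev.trAux._f; rewrite [Cfsg.Agent.LsF.f16d2d8_15.2, Cfsg.Agent.LsF.f16d2d8_16.2]; (try delta Cfsg.Agent.LThreeCo1.Ev.trAux.match_1); (try delta Nat.casesOn); first | dsimp -zeta only | exact rfl) | exact rfl⟩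
private noncomputable def _root_.Cfsg.Agent.LsF.f16d2d8_24 : {f // @Cfsg.Agent.LThreeCo1.Ev.tr = f} := ⟨_, by first | (delta Cfsg.Agent.LThreeCo1.Ev.tr; rewrite [Cfsg.Agent.LsF.f16d2d8_23.2]; exact rfl) | exact rfl⟩
theorem okG : okN nG = true := MOCo.Q5.okz_of (by ((try (rewrite [Cfsg.Agent.LsF.f16d2d8_18.2, Cfsg.Agent.LsF.f16d2d8_22.2, Cfsg.Agent.LsF.f16d2d8_24.2])); decide +kernel))

/-- the letters -/
def l (i : Fin 2) : ℕ := 2 + 4 * i.val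

/-- the action on `W` -/
def A (i : Fin 2) (v : W) : W := if i = 0 then (2 * v.1, v.2) else (v.1 + 3 * v.2, 3 * v.1 + 6 * v.2)

/-- the normal form -/
def wd (v : W) : List ℕ := List.replicate v.1.val 0 ++ List.replicate v.2.val 1

/-- the basis -/
def E : List W := [(1, 0), (0, 1)]

/-- the words -/
def L : List (List (Fin 2)) := [[], [0], [1], [0, 0], [1, 0], [0, 1], [1, 1], [1, 0, 0], [0, 1, 0], [1, 1, 0], [0, 0, 1], [1, 0, 1], [1, 1, 1], [0,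
  1, 0, 0], [1, 1, 0, 0], [0, 0, 1, 0], [1, 0, 1, 0], [1, 1, 1, 0], [1, 0, 0, 1], [0, 1, 0, 1], [1, 1, 0, 1], [1, 1, 1,
  1], [0, 0, 1, 0, 0], [1, 0, 1, 0, 0], [1, 1, 1, 0, 0], [1, 0, 0, 1, 0], [0, 1, 0, 1, 0], [1, 1, 0, 1, 0], [1, 1, 1, 1,
  0], [0, 1, 0, 0, 1], [1, 1, 0, 0, 1], [0, 0, 1, 0, 1], [1, 0, 1, 0, 1], [1, 1, 1, 0, 1], [1, 0, 0, 1, 0, 0], [0, 1, 0,
  1, 0, 0], [1, 1, 0, 1, 0, 0], [1, 1, 1, 1, 0, 0], [0, 1, 0, 0, 1, 0], [1, 1, 0, 0, 1, 0], [0, 0, 1, 0, 1, 0], [1, 0,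
  1, 0, 1, 0], [1, 1, 1, 0, 1, 0], [0, 0, 1, 0, 0, 1], [1, 0, 1, 0, 0, 1], [1, 0, 0, 1, 0, 1], [1, 1, 0, 1, 0, 1], [0,
  1, 0, 0, 1, 0, 0], [1, 1, 0, 0, 1, 0, 0], [0, 0, 1, 0, 1, 0, 0], [1, 0, 1, 0, 1, 0, 0], [1, 1, 1, 0, 1, 0, 0], [0, 0,
  1, 0, 0, 1, 0], [1, 0, 1, 0, 0, 1, 0], [1, 0, 0, 1, 0, 1, 0], [1, 1, 0, 1, 0, 1, 0], [0, 1, 0, 0, 1, 0, 1], [1, 1, 0,
  0, 1, 0, 1], [1, 1, 1, 0, 1, 0, 1], [0, 0, 1, 0, 0, 1, 0, 0], [1, 0, 1, 0, 0, 1, 0, 0], [1, 0, 0, 1, 0, 1, 0, 0], [1,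
  1, 0, 1, 0, 1, 0, 0], [0, 1, 0, 0, 1, 0, 1, 0], [1, 1, 0, 0, 1, 0, 1, 0], [1, 1, 1, 0, 1, 0, 1, 0], [1, 0, 1, 0, 0, 1,
  0, 1], [0, 1, 0, 0, 1, 0, 1, 0, 0], [1, 1, 0, 0, 1, 0, 1, 0, 0], [1, 1, 1, 0, 1, 0, 1, 0, 0], [1, 0, 1, 0, 0, 1, 0, 1,
  0], [1, 0, 1, 0, 0, 1, 0, 1, 0, 0]]

/-- the vectors -/
def LV : List W := [0, 1, 2, 3, 4, 5, 6] ×ˢ [0, 1, 2, 3, 4, 5, 6]

/-- the elements without fixed points -/
def TA : List W := [(1, 0), (1, 3), (1, 5), (1, 6), (2, 0), (2, 3), (2, 5), (2, 6), (3, 0), (3, 1), (3, 2), (3, 4), (4, 0), (4, 3), (4,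
  5), (4, 6), (5, 0), (5, 1), (5, 2), (5, 4), (6, 0), (6, 1), (6, 2), (6, 4)]

theorem wd_prod (v : W) : ((wd v).map (eX okG 6 e)).prod = F (Multiplicative.ofAdd v) := by
  simp only [wd, List.map_append, List.prod_append, List.map_replicate, List.prod_replicate]
  rfl

private noncomputable def _root_.Cfsg.Agent.LsF.f16d2d8_25 : {f // @Cfsg.Agent.SporadicStructure.Co0Matrix.dotL = f} := ⟨_, by first | (delta Cfsg.Agent.SporadicStructure.Co0Matrix.dotL List.brecOn List.brecOn.go Cfsg.Agent.SporadicStructure.Co0Matrix.dotL._f; rewrite [Cfsg.Agent.LsF.iadd_pat, Cfsg.Agent.LsF.imul_pat]; (try delta Cfsg.Agent.SporadicStructure.Co0Matrix.dotL.match_1); (try delta Cfsg.Agent.SporadicStructure.Co0Matrix.dotL._sparseCasesOn_1); first | dsimp -zeta only | exact rfl) | exact rfl⟩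
private noncomputable def _root_.Cfsg.Agent.LsF.f16d2d8_26 : {f // @Cfsg.Agent.CoOneType.CoEval.ap = f} := ⟨_, by first | (delta Cfsg.Agent.CoOneType.CoEval.ap; rewrite [Cfsg.Agent.LsF.f16d2d8_25.2, Cfsg.Agent.LsF.map_eq]; exact rfl) | exact rfl⟩
private noncomputable def _root_.Cfsg.Agent.LsF.f16d2d8_27 : {f // @Cfsg.Agent.CoOneType.CoEval.fold = f} := ⟨_, by first | (delta Cfsg.Agent.CoOneType.CoEval.fold; rewrite [Cfsg.Agent.LsF.f16d2d8_26.2, Cfsg.Agent.LsF.foldr_eq]; exact rfl) | exact rfl⟩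
private noncomputable def _root_.Cfsg.Agent.LsF.f16d2d8_28 : {f // @Cfsg.Agent.MOCo.Q5.fq = f} := ⟨_, by first | (delta Cfsg.Agent.MOCo.Q5.fq; rewrite [Cfsg.Agent.LsF.f16d2d8_27.2]; exact rfl) | exact rfl⟩
private noncomputable def _root_.Cfsg.Agent.LsF.f16d2d8_29 : {f // @Cfsg.Agent.MO.S.Co1.MX = f} := ⟨_, by first | (delta Cfsg.Agent.MO.S.Co1.MX; rewrite [Cfsg.Agent.LsF.f16d2d8_22.2, Cfsg.Agent.LsF.instDecEq_eq, Cfsg.Agent.LsF.ite_eq]; exact rfl) | exact rfl⟩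
private noncomputable def _root_.Cfsg.Agent.LsF.f16d2d8_30 : {f // @Cfsg.Agent.BpSevenCo.Data.M = f} := ⟨_, by first | (delta Cfsg.Agent.BpSevenCo.Data.M; (try delta Cfsg.Agent.BpSevenCo.Data.M.match_1); (try rewrite [Cfsg.Agent.LsF.instDecEq_eq, Cfsg.Agent.LsF.dite_eq]); exact rfl) | exact rfl⟩
private noncomputable def _root_.Cfsg.Agent.LsF.f16d2d8_31 : {f // @Cfsg.Agent.MO.S.Co1.Seven.wd = f} := ⟨_, by first | (delta Cfsg.Agent.MO.S.Co1.Seven.wd; rewrite [Cfsg.Agent.LsF.lappend_pat, Cfsg.Agent.LsF.zval_eq, Cfsg.Agent.LsF.replicate_eq]; exact rfl) | exact rfl⟩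
theorem k_ne : ∀ v : W, v ≠ 0 → neB' (MX nG 6 M) (wd v) [] = true := by
  rewrite [MOCo.Q5.neB_eq]
  (refine of_decide_eq_true ?_; (try (rewrite [Cfsg.Agent.LsF.f16d2d8_6.2, Cfsg.Agent.LsF.f16d2d8_28.2, Cfsg.Agent.LsF.f16d2d8_10.2, Cfsg.Agent.LsF.f16d2d8_29.2, Cfsg.Agent.LsF.f16d2d8_30.2, Cfsg.Agent.LsF.f16d2d8_31.2, Cfsg.Agent.LsF.zdecEq_eq, Cfsg.Agent.LsF.dProdEq_eq, Cfsg.Agent.LsF.zFintype_eq, Cfsg.Agent.LsF.prodFintype_eq, Cfsg.Agent.LsF.dForall_eq, Cfsg.Agent.LsF.and_eq, Cfsg.Agent.LsF.not_eq, Cfsg.Agent.LsF.dNot_eq, Cfsg.Agent.LsF.dBoolEq_eq, Cfsg.Agent.LsF.dAllP_eq, Cfsg.Agent.LsF.length_eq, Cfsg.Agent.LsF.decide_eq])); decide +kernel)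

theorem k_im : ∀ i, ∀ v ∈ E, eqB (MX nG 6 M) (l i :: wd v) (wd (A i v) ++ [l i]) = true := by
  rewrite [MOCo.Q5.eqB_eq]
  decide +kernel

theorem dec1 : ∀ v : W, v = v.1.val • (1, 0) + v.2.val • (0, 1) := by decide +kernel

theorem card_W : Nat.card (Multiplicative W) = 7 ^ 2 := by simp

private theorem A_add (i : Fin 2) (u v : W) : A i (u + v) = A i u + A i v := by
  delta A
  split_ifs <;> refine Prod.ext ?_ ?_ <;> simp only [Prod.fst_add, Prod.snd_add] <;> ring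

theorem mod : Mod 7 F Multiplicative.toAdd (fun i => eX okG 6 e (l i)) A where
  inj := (injective_iff_map_eq_one F).2 fun v hv => by_contra fun h =>
    ne_of_neB' (repX okG 6 rep) (k_ne v.toAdd h) ((wd_prod _).trans hv)
  pg := IsPGroup.of_card card_W
  add _ _ := rfl
  surj v := ⟨Multiplicative.ofAdd v, rfl⟩
  ker v h := (show v = 1 from h) ▸ one_mem _
  act i := by
    refine act_of_gens (fun _ _ => rfl) (A_add i)
      (B := {v | v.toAdd ∈ E}) (eq_top_iff.2 fun v _ => ?_) fun v hv => ?_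
    · rw [← ofAdd_toAdd v, dec1 v.toAdd, ofAdd_add, ofAdd_nsmul, ofAdd_nsmul]
      refine mul_mem (pow_mem (Subgroup.subset_closure ?_) _) (pow_mem (Subgroup.subset_closure ?_) _)
      exacts [List.Mem.head _, List.Mem.tail _ (List.Mem.head _)]
    · have h := eq_of_eqB (repX okG 6 rep) (k_im i _ hv)
      rw [List.map_cons, List.prod_cons, List.map_append, List.prod_append, wd_prod, wd_prod, List.map_singleton,
        List.prod_singleton] at h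
      exact ⟨Multiplicative.ofAdd (A i v.toAdd), eq_mul_inv_of_mul_eq h.symm, rfl⟩

private noncomputable def _root_.Cfsg.Agent.LsF.f16d2d8_33 : {f // @Cfsg.Agent.MO.S.Co1.Seven.A = f} := ⟨_, by first | (delta Cfsg.Agent.MO.S.Co1.Seven.A; rewrite [Cfsg.Agent.LsF.zadd_pat, Cfsg.Agent.LsF.zmul_pat, Cfsg.Agent.LsF.dFinEq_eq, Cfsg.Agent.LsF.ite_eq]; exact rfl) | exact rfl⟩
theorem orb : ∀ v : W, (v ∈ TA → ∃ w ∈ L, act A w (1, 0) = v) ∧ (v ∉ TA → v = 0 ∨ ∃ w ∈ L, act A w (0, 1) = v) := by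
  (refine of_decide_eq_true ?_; (try (rewrite [Cfsg.Agent.LsF.dMemP_pat, Cfsg.Agent.LsF.f16d2d8_0.2, Cfsg.Agent.LsF.f16d2d8_33.2, Cfsg.Agent.LsF.zdecEq_eq, Cfsg.Agent.LsF.dProdEq_eq, Cfsg.Agent.LsF.zFintype_eq, Cfsg.Agent.LsF.prodFintype_eq, Cfsg.Agent.LsF.dForall_eq, Cfsg.Agent.LsF.dAnd_eq, Cfsg.Agent.LsF.dOr_eq, Cfsg.Agent.LsF.dNot_eq, Cfsg.Agent.LsF.dBEx_eq, Cfsg.Agent.LsF.dAllP_eq, Cfsg.Agent.LsF.decide_eq])); decide +kernel)

private theorem mem_TA : ∀ v : W, v ∈ TA ↔ Nat.testBit 0x5cbe92fa7480 (7 * v.1.val + v.2.val) = true := by decide +kernel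

private theorem act_add (w : List (Fin 2)) (u v : W) : act A w (u + v) = act A w u + act A w v := by
  induction w with
  | nil => rfl
  | cons i w ih => exact (congrArg (A i) ih).trans (A_add i _ _)

theorem all : ∀ r ∈ TA, ∀ s ∉ TA, (∀ k ∈ [0, 1, 2, 3, 4, 5, 6], r + k • s ∈ TA ↔ (1, 0) + k • (0, 1) ∈ TA) →
    ∃ w ∈ L, (act A w (1, 0) = r ∧ act A w (0, 1) = s) ∧ ∀ v : W, act A w v = v.1.val • r + v.2.val • s := by
  have h : ∀ r ∈ TA, ∀ s ∉ TA, (∀ k ∈ [0, 1, 2, 3, 4, 5, 6], r + k • s ∈ TA ↔ (1, 0) + k • (0, 1) ∈ TA) →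
      ∃ w ∈ L, act A w (1, 0) = r ∧ act A w (0, 1) = s := by
    simp only [mem_TA]
    (refine of_decide_eq_true ?_; (try (rewrite [Cfsg.Agent.LsF.f16d2d8_0.2, Cfsg.Agent.LsF.f16d2d8_33.2, Cfsg.Agent.LsF.nadd_pat, Cfsg.Agent.LsF.nmul_pat, Cfsg.Agent.LsF.zdecEq_eq, Cfsg.Agent.LsF.zval_eq, Cfsg.Agent.LsF.dProdEq_eq, Cfsg.Agent.LsF.zFintype_eq, Cfsg.Agent.LsF.prodFintype_eq, Cfsg.Agent.LsF.dForall_eq, Cfsg.Agent.LsF.instZAdd_pat, Cfsg.Agent.LsF.testBit_eq, Cfsg.Agent.LsF.dAnd_eq, Cfsg.Agent.LsF.dNot_eq, Cfsg.Agent.LsF.dImp_eq, Cfsg.Agent.LsF.dBoolEq_eq, Cfsg.Agent.LsF.dBAll_eq, Cfsg.Agent.LsF.dBEx_eq, Cfsg.Agent.LsF.dAllP_eq, Cfsg.Agent.LsF.dIffI_eq, Cfsg.Agent.LsF.decide_eq])); decide +kernel)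
  refine fun r hr s hs hk => (h r hr s hs hk).imp fun w hw => ⟨hw.1, hw.2, fun v => ?_⟩
  have h1 := map_add (AddMonoidHom.mk' (act A w) (act_add w)) (v.1.val • (1, 0)) (v.2.val • (0, 1))
  rw [← dec1, map_nsmul, map_nsmul] at h1
  rw [← hw.2.1, ← hw.2.2]
  exact h1

instance instFactSeven : Fact (Nat.Prime 7) := ⟨by norm_num⟩

theorem nf_conj (g s : Spor.Co1) : NF (g * s * g⁻¹) ↔ NF s :=
  ⟨fun h => by simpa [mul_assoc] using h.conj g⁻¹, fun h => h.conj g⟩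

/-- the two classes -/
theorem nf_iff (m : Mod 7 (pr.comp F) Multiplicative.toAdd (fun i => pr (eX okG 6 e (l i))) A) (v : Multiplicative W) :
    NF (pr.comp F v) ↔ v.toAdd ∉ TA := by
  have h1 : ∀ w u, act A w u = v.toAdd → (NF (pr.comp F v) ↔ NF (pr.comp F (Multiplicative.ofAdd u))) := fun w u h => by
    obtain ⟨y, h1, h2⟩ := m.ev_act w (Multiplicative.ofAdd u)
    rw [show v = y from (h2.trans h).symm, h1, nf_conj]
  refine ⟨fun h hv => ?_, fun hv => ?_⟩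
  · obtain ⟨w, -, h2⟩ := (orb _).1 hv
    refine not_nf fr_x ?_
    have h3 := (h1 w _ h2).1 h
    rwa [show pr.comp F (Multiplicative.ofAdd (1, 0)) = pr (x0 ^ 1 * y0 ^ 0) from rfl, pow_one, pow_zero, mul_one] at h3
  · rcases (orb _).2 hv with h2 | ⟨w, -, h2⟩
    · obtain ⟨u, h3, -⟩ := nf_y
      exact ⟨u, h3, by rw [show v = 1 from h2, map_one, one_smul]⟩
    · rw [h1 w _ h2, show pr.comp F (Multiplicative.ofAdd (0, 1)) = pr (x0 ^ 0 * y0 ^ 1) from rfl, pow_one, pow_zero, one_mul]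
      exact nf_y

private noncomputable def _root_.Cfsg.Agent.LsF.f16d2d8_32 : {f // @Cfsg.Agent.MO.S.Co1.Seven.l = f} := ⟨_, by first | (delta Cfsg.Agent.MO.S.Co1.Seven.l; rewrite [Cfsg.Agent.LsF.nadd_pat, Cfsg.Agent.LsF.nmul_pat]; exact rfl) | exact rfl⟩
theorem k_cl : ∀ i, okL (MX nG 6 M) l A E L i = true := by
  rewrite [Q5.okL_eq]
  (refine of_decide_eq_true ?_; (try (rewrite [Cfsg.Agent.LsF.f16d2d8_6.2, Cfsg.Agent.LsF.f16d2d8_28.2, Cfsg.Agent.LsF.f16d2d8_10.2, Cfsg.Agent.LsF.f16d2d8_0.2, Cfsg.Agent.LsF.f16d2d8_29.2, Cfsg.Agent.LsF.f16d2d8_30.2, Cfsg.Agent.LsF.f16d2d8_32.2, Cfsg.Agent.LsF.f16d2d8_33.2, Cfsg.Agent.LsF.zdecEq_eq, Cfsg.Agent.LsF.dProdEq_eq, Cfsg.Agent.LsF.all_eq, Cfsg.Agent.LsF.map_eq, Cfsg.Agent.LsF.find?_eq, Cfsg.Agent.LsF.ogetD_eq, Cfsg.Agent.LsF.dBoolEq_eq, Cfsg.Agent.LsF.dListEq_eq, Cfsg.Agent.LsF.dForallFin_eq, Cfsg.Agent.LsF.decide_eq])); decide +kernel)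

private def cd (v : W) : ℕ := 7 * v.1.val + v.2.val

private def ac (i : Fin 2) (n : ℕ) : ℕ := Nat.mod (Nat.shiftRight (Nat.rec 0x29a279a59236da6585d654d30b289207c2fbadb2baa28607de75c51349140f3861440c2040 (fun _ _ => 0x1a19c22546e42d64588790d8cfb181210e03293ab5ea5827cba149d3c1505e29d2664af6c0) i.val) (Nat.mul 6 n)) 64

private noncomputable def _root_.Cfsg.Agent.LsF.f16d2d8_34 : {f // @Cfsg.Agent.MO.S.Co1.Seven.cd = f} := ⟨_, by first | (delta Cfsg.Agent.MO.S.Co1.Seven.cd; rewrite [Cfsg.Agent.LsF.nadd_pat, Cfsg.Agent.LsF.nmul_pat, Cfsg.Agent.LsF.zval_eq]; exact rfl) | exact rfl⟩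
theorem k_cnt : cnt A E LV L = 27 * L.length :=
  (Q5.cnt_code (c := cd) (a := ac) (fun u v h => by
    have h1 := u.2.val_lt
    have h2 := v.2.val_lt
    have h3 : 7 * u.1.val + u.2.val = 7 * v.1.val + v.2.val := h
    exact Prod.ext (ZMod.val_injective 7 (by omega)) (ZMod.val_injective 7 (by omega))) (by decide +kernel) E LV L).trans
    (by (refine of_decide_eq_true ?_; (try (rewrite [Cfsg.Agent.LsF.f16d2d8_5.2, Cfsg.Agent.LsF.f16d2d8_34.2, Cfsg.Agent.LsF.nmul_pat, Cfsg.Agent.LsF.instDecEq_eq, Cfsg.Agent.LsF.map_eq, Cfsg.Agent.LsF.length_eq, Cfsg.Agent.LsF.decide_eq])); decide +kernel))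

theorem rows : SmC 7 1 Spor.Co1 ∧ SmC 7 2 Spor.Co1 := by
  have := H68.CoMdl.finite_co1
  refine Co1.rows (repX okG 6 rep) mod card_W (o := 84852587888640000) (by norm_num) (by norm_num)
    (by decide +kernel) (L := L) (fun Q hQ hC m => m.cover' Q hQ hC fun g α h1 _ h2 => ?_)
    (by (refine of_decide_eq_true ?_; (try (rewrite [Cfsg.Agent.LsF.f16d2d8_0.2, Cfsg.Agent.LsF.f16d2d8_33.2, Cfsg.Agent.LsF.zdecEq_eq, Cfsg.Agent.LsF.dProdEq_eq, Cfsg.Agent.LsF.map_eq, Cfsg.Agent.LsF.dNodup_eq, Cfsg.Agent.LsF.dListEq_eq, Cfsg.Agent.LsF.decide_eq])); decide +kernel)) (by decide +kernel) (by decide +kernel) (by decide) k_cnt (by decide) k_cl gk7 (by decide +kernel)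
  let f : Multiplicative W →* Multiplicative W := MonoidHom.mk' α h1
  have h3 : ∀ v, (α v).toAdd ∈ TA ↔ v.toAdd ∈ TA := fun v => not_iff_not.1 (by
    rw [← nf_iff m, ← nf_iff m, h2, nf_conj])
  have h4 : ∀ a b : ℕ, (f (Multiplicative.ofAdd (a • (1, 0) + b • (0, 1)))).toAdd =
      a • (α (Multiplicative.ofAdd (1, 0))).toAdd + b • (α (Multiplicative.ofAdd (0, 1))).toAdd := fun a b => by
    rw [ofAdd_add, ofAdd_nsmul, ofAdd_nsmul, map_mul, map_pow, map_pow]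
    rfl
  refine (all _ ((h3 _).2 (by decide)) _ ((h3 _).not.2 (by decide)) fun k _ => ?_).imp fun w hw =>
    ⟨hw.1, fun v => (hw.2.2 _).trans ((h4 _ _).symm.trans (by rw [← dec1]; rfl))⟩
  have h5 := h3 (Multiplicative.ofAdd (1 • (1, 0) + k • (0, 1)))
  rwa [show (α _).toAdd = _ from h4 1 k, one_smul, toAdd_ofAdd, one_smul] at h5

end Cfsg.Agent.MO.S.Co1.Seven
end

-- part: MO/S/Co1/Main
section
/-!
# MO : the rows of `Co1` and `2.Co1` (helper74)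
-/

set_option autoImplicit false

namespace Cfsg.Agent.MO.S

open Cfsg

theorem co1_1_3 : SmC 3 1 Spor.Co1 := Co1.Three.rows.1
theorem co1_2_3 : SmC 3 2 Spor.Co1 := Co1.Three.rows.2
theorem co1_1_5 : SmC 5 1 Spor.Co1 := Co1.Five.rows.1
theorem co1_2_5 : SmC 5 2 Spor.Co1 := Co1.Five.rows.2
theorem co1_1_7 : SmC 7 1 Spor.Co1 := Co1.Seven.rows.1
theorem co1_2_7 : SmC 7 2 Spor.Co1 := Co1.Seven.rows.2

end Cfsg.Agent.MO.S
end

-- part: MO/S/ON3/Main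
section
/-!
# MO, the row `O'N` for the prime `3` (helper82)
-/

set_option autoImplicit false
set_option maxRecDepth 100000

namespace Cfsg.Agent.MO.S.ON3

open Cfsg Subgroup Cfsg.Agent.MO.T Cfsg.Agent.MO.L Cfsg.Agent.MO.S.Pc
open Cfsg.Spor (ON)
open Cfsg.Spor.ON (Gen)
open Cfsg.Agent.KFacts.ON.Cent (finite_ON hON)
open Cfsg.Agent.KFacts.MulSpor.ON (w w_append w_iw iw mats)
open Cfsg.Agent.SporadicB.ON45Word (on)
open Cfsg.Agent.ONType.TupRow (rowNe)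
open Cfsg.Agent.UGT.C.BalON (bt btw bt_word eqW out')
open Cfsg.Agent.MK.S.Pc (ev ev_nil ev_cons V mem_V V_le)

section gen

variable {Γ : Type} [Group Γ] [Finite Γ]

theorem card_le_orb (Q : Subgroup Γ) {x : Γ} (hx : x ∈ Q) (h1 : x ≠ 1) : Nat.card (normalizer (Q : Set Γ)) ≤
    Nat.card ((normalizer (Q : Set Γ)).subgroupOf (centralizer {x})) * (Nat.card Q - 1) := by
  have h0 : ∀ A B : Subgroup Γ, Nat.card (A.subgroupOf B) = Nat.card (A ⊓ B :) := fun A B => by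
    rw [← inf_subgroupOf_right, Nat.card_congr (subgroupOfEquivOfLe inf_le_right).toEquiv]
  rw [← ((centralizer {x}).subgroupOf (normalizer (Q : Set Γ))).card_mul_index, h0, h0, inf_comm]
  refine Nat.mul_le_mul_left _ (le_trans ?_ (show Nat.card {y : Q // y ≠ 1} ≤ _ from
    Nat.le_sub_one_of_lt (Finite.card_subtype_lt (x := 1) (not_not.2 rfl))))
  refine Nat.card_le_card_of_injective (fun a => ⟨⟨a.out * x * (a.out : Γ)⁻¹, (mem_normalizer_iff.1 a.out.2 x).1 hx⟩,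
    fun e => h1 (by simpa [mul_inv_eq_one] using congrArg Subtype.val e)⟩) fun a b e => ?_
  have h2 : (a.out : Γ) * x * (a.out : Γ)⁻¹ = b.out * x * (b.out : Γ)⁻¹ := congrArg (fun u => u.1.1) e
  rw [← a.out_eq', ← b.out_eq', QuotientGroup.eq, mem_subgroupOf, mem_centralizer_singleton_iff, coe_mul, coe_inv]
  calc (a.out : Γ)⁻¹ * b.out * x = (a.out : Γ)⁻¹ * (b.out * x * (b.out : Γ)⁻¹) * b.out := by group
    _ = _ := by rw [← h2]; group

theorem rel_modEq {p : ℕ} [Fact p.Prime] (Q : Sylow p Γ) {K : Subgroup Γ} (h1 : (Q : Subgroup Γ) ≤ K) :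
    (normalizer ((Q : Subgroup Γ) : Set Γ)).relIndex K ≡ 1 [MOD p] := by
  have h2 := card_sylow_modEq_one p K
  rw [(Q.subtype h1).card_eq_index_normalizer] at h2
  rwa [relIndex, subgroupOf_normalizer_eq h1]

end gen

/-! ### words in words -/

section eng

variable (es : List (List Gen))

/-- the letters -/
def lt (i : ℕ) : ON := w (es.getD i [])

/-- the word in the generators -/
def fl (u : List ℕ) : List Gen := u.flatMap fun i => es.getD i []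

theorem ev_fl : ∀ u, ev (lt es) u = w (fl es u)
  | [] => rfl
  | a :: u => by rw [ev_cons, ev_fl u, lt, ← w_append]; rfl

noncomputable def eqv (u v : List ℕ) : Bool := eqW (fl es u) (fl es v)

theorem eqv_ok (u v : List ℕ) (h : eqv es u v = true) : ev (lt es) u = ev (lt es) v := by
  rw [ev_fl, ev_fl, weq h]

/-- the images of the letters under the outer automorphism -/
noncomputable def aut (n : ℕ) (l : List Gen) (R : List (List ℕ)) : Bool :=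
  (List.range n).all fun j => Nat.ble (R.getD j []).length n &&
    eqW (l ++ btw (es.getD j [])) (fl es (pwd (R.getD j [])) ++ l)

variable {es} {p n m : ℕ} {c : Cert}

theorem aut_ok (h : Pc.chk (eqv es) p n m c = true) {l : List Gen} {R : List (List ℕ)} (ha : aut es n l R = true) :
    (∀ x, (MulAut.conj (w l) * bt hON) x ∈ V (lt es) n 0 ↔ x ∈ V (lt es) n 0) ∧
      Mt m (V (lt es) n 0) (lt es) (MulAut.conj (w l) * bt hON :) R := by
  have := finite_ON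
  have hp := pc_of_chk (eqv_ok es) h
  have h1 : ∀ j < n, (R.getD j []).length ≤ n ∧ (MulAut.conj (w l) * bt hON) (lt es j) = ev (lt es) (pwd (R.getD j [])) :=
    fun j hj => by
      have h2 := List.all_eq_true.1 ha j (List.mem_range.2 hj)
      rw [Bool.and_eq_true, Nat.ble_eq] at h2
      have h3 := weq h2.2
      rw [w_append, w_append, ← ev_fl] at h3
      exact ⟨h2.1, mul_inv_eq_iff_eq_mul.2 ((congrArg (w l * ·) (bt_word hON _)).trans h3)⟩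
  refine ⟨MK.T.stab_of_le fun x hx => V_le (H := (V (lt es) n 0).comap (MulAut.conj (w l) * bt hON).toMonoidHom)
    (fun j _ hj => ?_) hx, fun j hj => ?_⟩
  · exact mem_comap.2 ((h1 j hj).2.symm ▸ pwd_mem (h1 j hj).1 : (MulAut.conj (w l) * bt hON) (lt es j) ∈ _)
  · rw [hp.comm_eq, (h1 j (hj.trans_le hp.le)).2]
    exact pwd_mod (h1 j (hj.trans_le hp.le)).1 m

theorem out_al (l : List Gen) (γ : MulAut ON) :
    ∃ s, γ = MulAut.conj s ∨ γ = MulAut.conj s * (MulAut.conj (w l) * bt hON) := by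
  obtain ⟨s, h | h⟩ := out' hON γ
  · exact ⟨s, .inl h⟩
  · exact ⟨s * (w l)⁻¹, .inr (by rw [h, map_mul, map_inv, mul_assoc, inv_mul_cancel_left])⟩

end eng

section FastPackMat
open Cfsg.Agent.Lib.PackMat

/-- one step on a row which is followed by 64 arbitrary bits -/
private noncomputable def fStep (p r m t nf GM FM LO HI HT P G : ℕ) : ℕ :=
  Nat.add (Nat.shiftLeft ((fun F => Nat.sub F (Nat.mul p (Nat.land (Nat.shiftRight (Nat.mul F m) t) HT)))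
    (Nat.rec (Nat.mod (Nat.land (Nat.mul (Nat.shiftRight P 64) G) GM) FM)
      (fun _ F => Nat.add (Nat.land F LO) (Nat.land (Nat.shiftRight F r) HI)) nf)) 64)
    (Nat.mod (Nat.add P 1) 18446744073709551557)

private theorem fFold (r LO HI k : ℕ) : ∀ F, foldK r LO HI k F =
    Nat.rec F (fun _ F => Nat.add (Nat.land F LO) (Nat.land (Nat.shiftRight F r) HI)) k := by
  have key : ∀ (f : ℕ → ℕ) (k F : ℕ), (Nat.rec (f F) (fun _ F => f F) k : ℕ) = f (Nat.rec F (fun _ F => f F) k) :=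
    fun f k F => by
      induction k with
      | zero => rfl
      | succ k ih => exact congrArg f ih
  induction k with
  | zero => exact fun _ => rfl
  | succ k ih => exact fun F => (ih _).trans (key (fun F => Nat.add (Nat.land F LO) (Nat.land (Nat.shiftRight F r) HI)) k F)

private theorem fShift (x y : ℕ) : Nat.shiftRight (Nat.add (Nat.shiftLeft x 64) (Nat.mod y 18446744073709551557)) 64 = x := by
  have h : y % 18446744073709551557 < 18446744073709551557 := Nat.mod_lt _ (by decide)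
  show (x <<< 64 + y % 18446744073709551557) >>> 64 = x
  rw [Nat.shiftLeft_eq, Nat.shiftRight_eq_div_pow]
  omega

private noncomputable def fRun (p r m t nf GM FM LO HI HT : ℕ) (w : List ℕ) : ℕ → ℕ :=
  List.rec (fun P => Nat.shiftRight P 64) (fun g _ ih P => force (fStep p r m t nf GM FM LO HI HT P g) ih) w

private theorem fRun_eq (p r m t nf GM FM LO HI HT : ℕ) (w : List ℕ) : ∀ P, fRun p r m t nf GM FM LO HI HT w P =
    runK p r m t nf GM FM LO HI HT w (Nat.shiftRight P 64) := by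
  induction w with
  | nil => exact fun _ => rfl
  | cons g w ih =>
    intro P
    refine (ih (fStep p r m t nf GM FM LO HI HT P g)).trans (congrArg (runK p r m t nf GM FM LO HI HT w) ?_)
    refine (fShift _ _).trans ?_
    rw [← fFold]
    rfl

private noncomputable def fList (w : List ℕ) : (List ℕ → Bool) → Bool :=
  List.rec (fun k => k []) (fun g _ ih k => force g fun g' => ih fun l => k (g' :: l)) w

private theorem fList_eq (w : List ℕ) : ∀ k, fList w k = k w := by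
  induction w with
  | nil => exact fun _ => rfl
  | cons g w ih => exact fun k => ih fun l => k (g :: l)

/-- the start of the row number `i` -/
private noncomputable def fIni (R i : ℕ) : ℕ := Nat.add (Nat.shiftLeft R 64) (Nat.mod i 18446744073709551557)

/-- `checkEq` -/
private noncomputable def fEq (C : Cfg) (w₁ w₂ : List ℕ) (lo cnt : ℕ) : Bool :=
  bif Nat.ble (lo + cnt) C.n then fList w₁ fun w₁ => fList w₂ fun w₂ =>
    withC C fun s p r m t nf GM FM LO HI HT => force (unitRow C 1 lo) fun R =>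
      Nat.rec (motive := fun _ => ℕ → Bool) (fun _ => true) (fun i ih R =>
        bif Nat.beq (fRun p r m t nf GM FM LO HI HT w₁ (fIni R i)) (fRun p r m t nf GM FM LO HI HT w₂ (fIni R i)) then
          force (Nat.shiftRight R s) ih else false) cnt R
  else false

private theorem fEq_eq (C : Cfg) (w₁ w₂ : List ℕ) (lo cnt : ℕ) : checkEq C w₁ w₂ lo cnt = fEq C w₁ w₂ lo cnt := by
  have key : ∀ s p r m t nf GM FM LO HI HT cnt R, checkEqK s p r m t nf GM FM LO HI HT w₁ w₂ cnt R =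
      Nat.rec (motive := fun _ => ℕ → Bool) (fun _ => true) (fun i ih R =>
        bif Nat.beq (fRun p r m t nf GM FM LO HI HT w₁ (fIni R i)) (fRun p r m t nf GM FM LO HI HT w₂ (fIni R i)) then
          force (Nat.shiftRight R s) ih else false) cnt R := fun s p r m t nf GM FM LO HI HT cnt => by
    induction cnt with
    | zero => exact fun _ => rfl
    | succ i ih =>
      intro R
      show (bif Nat.beq (runK p r m t nf GM FM LO HI HT w₁ R) (runK p r m t nf GM FM LO HI HT w₂ R) then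
        checkEqK s p r m t nf GM FM LO HI HT w₁ w₂ i (Nat.shiftRight R s) else false) =
        bif Nat.beq (fRun p r m t nf GM FM LO HI HT w₁ (fIni R i)) (fRun p r m t nf GM FM LO HI HT w₂ (fIni R i)) then _
        else false
      rw [ih, fRun_eq, fRun_eq, fIni, fShift]
      rfl
  rw [fEq, fList_eq, fList_eq]
  exact congrArg (fun b => bif Nat.ble (lo + cnt) C.n then b else false) (key _ _ _ _ _ _ _ _ _ _ _ _ _)

end FastPackMat

section
open Cfsg.Agent.SporadicB.ON45Data Cfsg.Agent.ONType.TupMats Cfsg.Agent.ONType.TupRow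

private noncomputable def eqF (v w : List Gen) : Bool :=
  fEq C45 (Schreier.ONRel.mats v) (Schreier.ONRel.mats w) 0 45 || fEq C45 (Schreier.ONRel.mats v ++ [m2]) (Schreier.ONRel.mats w) 0 45 || fEq C45 (Schreier.ONRel.mats v ++ [m4]) (Schreier.ONRel.mats w) 0 45

private theorem eqW_eq : eqW = eqF := funext fun v => funext fun w => by
  delta eqW eqM eqF
  rw [fEq_eq, fEq_eq, fEq_eq]

private noncomputable def eqvF (es : List (List Gen)) (u v : List ℕ) : Bool := eqF (fl es u) (fl es v)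

private theorem eqv_eq : eqv = eqvF :=
  congrArg (fun (e : List Gen → List Gen → Bool) (es : List (List Gen)) (u v : List ℕ) => e (fl es u) (fl es v)) eqW_eq

end

section FastCnt
open Cfsg.Agent.MO.L

/-- evaluate to a literal, then go on -/
private noncomputable def cLit (x : ℕ) (k : ℕ → ℕ) : ℕ := Nat.rec (motive := fun _ => ℕ) 0 (fun n _ => k n) (Nat.succ x)

/-- one element of the list : the test at the first base point, then the full count `g` -/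
private noncomputable def cStp (c u : ℕ) (F : ℕ → ℕ → (ℕ → ℕ) → ℕ) (t z : ℕ) (g : ℕ → ℕ) : ℕ :=
  Nat.rec (motive := fun _ => ℕ) (Nat.add (g c) (F t z g)) (fun _ _ => F t z g)
    (Nat.land (Nat.xor (Nat.shiftRight c z) (Nat.shiftRight t u)) 4095)

private noncomputable def cChain (y : ℕ) (L : List (ℕ × ℕ)) : ((ℕ → ℕ → (ℕ → ℕ) → ℕ) → ℕ) → ℕ :=
  List.rec (fun k => k fun _ _ _ => 0) (fun e _ ih k => Prod.rec (fun c _ =>
    cLit c fun c => cLit (Nat.mul 12 (MO.L.get c y)) fun u => ih fun F => k (cStp c u F)) e) L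

private noncomputable def cSum (y : ℕ) (L : List (ℕ × ℕ)) : ℕ → ℕ → (ℕ → ℕ) → ℕ :=
  List.rec (fun _ _ _ => 0) (fun e _ ih => cStp e.1 (Nat.mul 12 (MO.L.get e.1 y)) ih) L

private theorem cChain_eq (y : ℕ) (L : List (ℕ × ℕ)) : ∀ k, cChain y L k = k (cSum y L) := by
  induction L with
  | nil => exact fun _ => rfl
  | cons e L ih =>
    intro k
    obtain ⟨c, s⟩ := e
    exact ih fun F => k (cStp c (Nat.mul 12 (MO.L.get c y)) F)

private noncomputable def cG (t : ℕ) (bl fl : List (ℕ × ℕ)) (c : ℕ) : ℕ :=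
  Bool.rec (motive := fun _ => ℕ) 0 (cntF c fl) (allB t c bl)

private theorem cSum_eq {y z t : ℕ} {bl : List (ℕ × ℕ)} (h : (y, z) ∈ bl) (fl L : List (ℕ × ℕ)) :
    cSum y L t (Nat.mul 12 z) (cG t bl fl) = MO.L.inner t bl fl L := by
  induction L with
  | nil => rfl
  | cons e L ih =>
    show Nat.rec (motive := fun _ => ℕ) (Nat.add (cG t bl fl e.1) (cSum y L t (Nat.mul 12 z) (cG t bl fl)))
      (fun _ _ => cSum y L t (Nat.mul 12 z) (cG t bl fl))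
      ((e.1 >>> (12 * z) ^^^ t >>> (12 * MO.L.get e.1 y)) &&& (2 ^ 12 - 1)) =
      Bool.rec (motive := fun _ => ℕ) (MO.L.inner t bl fl L) (Nat.add (cntF e.1 fl) (MO.L.inner t bl fl L)) (allB t e.1 bl)
    rw [ih, Nat.and_two_pow_sub_one_eq_mod, Nat.xor_mod_two_pow]
    delta cG
    cases hb : allB t e.1 bl
    · cases e.1 >>> (12 * z) % 2 ^ 12 ^^^ t >>> (12 * MO.L.get e.1 y) % 2 ^ 12
      · exact Nat.zero_add _
      · rfl
    · have h1 : e.1 >>> (12 * z) % 2 ^ 12 = t >>> (12 * MO.L.get e.1 y) % 2 ^ 12 := (allB_iff t e.1 bl).1 hb _ h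
      rw [h1, Nat.xor_self]
      rfl

private noncomputable def cOut (P μ : ℕ) (base : List ℕ) (y : ℕ) (F : ℕ → ℕ → (ℕ → ℕ) → ℕ) (L : List (ℕ × ℕ)) : ℕ :=
  List.rec 0 (fun a _ ih => Prod.rec (fun t s => Nat.add (cLit t fun t => fixK t μ (fun fl => baseK s (fun bl =>
    cLit (Nat.mul 12 (MO.L.get s y)) fun z => F t z (cG t bl fl)) base []) P []) ih) a) L

private noncomputable def outerF (P μ : ℕ) (base : List ℕ) (L₀ L : List (ℕ × ℕ)) : ℕ :=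
  List.rec (motive := fun _ => ℕ) (outer P μ base L₀ L) (fun y _ _ => cChain y L₀ fun F => cOut P μ base y F L) base

private theorem outer_eqF : outer = outerF := by
  funext P μ base L₀ L
  cases base with
  | nil => rfl
  | cons y b =>
    refine Eq.symm ((cChain_eq y L₀ fun F => cOut P μ (y :: b) y F L).trans ?_)
    induction L with
    | nil => rfl
    | cons a L ih =>
      obtain ⟨t, s⟩ := a
      refine congrArg₂ Nat.add ?_ ih
      show fixK t μ (fun fl => baseK s (fun bl => cSum y L₀ t (Nat.mul 12 (MO.L.get s y)) (cG t bl fl)) (y :: b) []) P [] = _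
      rw [fixK_eq, fixK_eq, baseK_eq, baseK_eq]
      refine cSum_eq (y := y) (z := MO.L.get s y) ?_ _ _
      exact List.mem_append_left _ (List.mem_reverse.2 (List.mem_map.2 ⟨y, List.mem_cons_self, rfl⟩))

private noncomputable def chkG (o : ℕ → ℕ → List ℕ → List (ℕ × ℕ) → List (ℕ × ℕ) → ℕ) (p d : ℕ)
    (Ms : List (List (List ℕ))) (M : List (List ℕ)) (prog : List ℕ) (n c : ℕ) : Bool :=
  Nat.ble (p ^ d) 4096 && n % p != 0 && MO.L.frc (tab p d M) fun μ => MO.L.frc (sct μ (p ^ d)) fun ν =>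
    ((List.range (p ^ d)).all fun y => Nat.blt (MO.L.get ν y) (p ^ d) && Nat.beq (MO.L.get μ (MO.L.get ν y)) y) &&
      gensK p d μ ν Ms fun gens => lst (p ^ d) gens prog fun L => Nat.beq L.length n && ndp L &&
        Nat.beq (o (p ^ d) μ ((List.range d).map fun j => p ^ j) L L) (c * n)

private theorem chkM_eq : chkM = chkG outerF := congrArg chkG outer_eqF

end FastCnt

namespace Three

/-- `0 … 3` the Sylow subgroup, `4`, `5` the normaliser, `6` an element of order `5` -/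
def es : List (List Gen) := [[.a, .b], [.f, .c, .g, .c, .g, .a, .b, .g, .g, .g, .c, .g, .g, .g, .c, .f], [.f, .e], [.a, .d, .g, .d, .g, .f, .e,
  .g, .g, .g, .d, .g, .g, .g, .d, .a], [.c, .b, .d, .c, .d, .e, .d, .c, .b, .a, .d, .c, .b, .g, .e, .f, .d, .e, .c,
  .d, .b, .c, .d, .e, .b, .c, .d], [.f, .c, .g, .c, .g], [.d, .e, .a, .d, .g, .d, .g]]

def crt : Cert := ⟨[], [], []⟩

theorem c0 : Pc.chk (eqv es) 3 4 4 crt = true := by
  rw [eqv_eq]
  decide +kernel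

def RR : List (List (List ℕ)) := [[[2, 0, 2, 1], [1, 1, 0, 1], [2, 1, 2, 0], [0, 1, 1, 1]], [[0, 1, 0, 0], [2, 0, 0, 0], [0, 0, 1, 0], [0, 0, 0, 1]]]

theorem c1 : nrms (eqv es) 4 RR = true := by
  rw [eqv_eq]
  decide +kernel

def RA : List (List ℕ) := [[1, 0, 0, 0], [0, 2, 0, 0], [0, 0, 2, 1], [0, 0, 2, 2]]

theorem c2 : aut es 4 [.d] RA = true := by
  delta aut
  rw [eqW_eq]
  decide +kernel

def prog : List ℕ := [1, 1, 1, 2, 1, 2, 1, 2, 1, 0, 2, 1, 2, 0, 0, 2, 1, 2, 1, 2, 0, 0, 0, 0, 0, 0, 0, 0, 2, 1, 2, 1, 2, 2, 0, 0, 0, 0,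
  0, 2, 1, 2, 1, 2, 1, 0, 2, 2, 1, 0, 0, 0, 0, 0, 2, 0, 0, 0, 0, 0, 0, 0, 2, 1, 2, 1, 2, 1, 0, 2, 1, 2, 0, 0, 2, 0, 0,
  0, 0, 0, 0, 2, 1, 2, 1, 2, 1, 0, 2, 2, 1, 2, 1, 0, 0, 0, 0, 0, 0, 0, 2, 0, 0, 0, 0, 0, 0, 0, 2, 1, 2, 1, 2, 1, 0, 2,
  1, 2, 1, 0, 0, 0, 2, 1, 2, 1, 2, 0, 0, 0, 0, 0, 0, 0, 0, 2, 1, 2, 1, 2, 1, 0, 2, 0, 0, 0, 0, 0, 2, 1, 2, 1, 2, 1, 0,
  2, 2, 1, 2, 0, 0, 0, 0, 0, 0, 2, 0, 0, 0, 0, 0, 0, 0, 2, 1, 2, 1, 2, 1, 0, 2, 1, 2, 0, 0, 2, 1, 2, 1, 0, 0, 0, 0, 0,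
  0, 0, 2, 2, 1, 2, 1, 0, 2, 0, 0, 0, 0, 0, 0, 0, 2, 1, 2, 1, 2, 1, 0, 2, 1, 0, 2, 1, 2, 1, 0, 0, 0, 0, 0, 0, 0, 2, 0,
  0, 0, 0, 0, 0, 0, 2, 1, 2, 1, 2, 1, 0, 2, 1, 2, 1, 0, 2, 2, 1, 2, 1, 0, 0, 0, 0, 0, 0, 0, 2, 1, 2, 1, 2, 0, 0, 0, 0,
  0, 0, 0, 0, 2, 1, 2, 1, 2, 1, 0, 2, 0, 0, 0, 2, 2, 1, 2, 1, 0, 2, 0, 0, 0, 0, 0, 0, 0, 2, 1, 2, 1, 2, 1, 0, 2, 1, 0,
  2, 1, 2, 0, 0, 0, 0, 0, 0, 2, 1, 2, 1, 2, 1, 0, 0, 0, 0, 0, 0, 0, 0, 0, 0, 0, 0, 2, 1, 2, 1, 2, 1, 0, 2, 1, 2, 2, 2,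
  0, 0, 0, 0, 2, 1, 2, 1, 0, 2, 0, 0, 0, 0, 0, 0, 0, 2, 2, 1, 2, 1, 0, 2, 1, 2, 0, 0, 0, 0, 0, 0, 0, 0, 0, 2, 1, 2, 1,
  2, 1, 0, 2, 1, 0, 2, 1, 2, 1, 0, 0, 0, 0, 0, 0, 0, 2, 1, 2, 1, 2, 1, 0, 2, 0, 0, 0, 0, 0, 0, 0, 0, 0, 0, 0, 0, 2, 1,
  2, 1, 2, 1, 0, 2, 1, 2, 1, 0, 2, 2, 1, 2, 1, 0, 0, 0, 0, 0, 0, 0, 2, 1, 2, 1, 2, 0, 0, 2, 0, 0, 0, 0, 0, 0, 0, 2, 1,
  2, 1, 2, 1, 0, 2, 2, 0, 0, 0, 0, 2, 2, 1, 2, 1, 0, 2, 0, 0, 0, 0, 0, 0, 0, 2, 1, 2, 1, 2, 1, 0, 2, 1, 0, 2, 1, 2, 1,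
  0, 0, 0, 0, 0, 0, 0, 2, 1, 2, 1, 2, 1, 0, 0, 0, 0, 0, 0, 0, 0, 0, 0, 0, 0, 2, 1, 2, 1, 2, 1, 0, 2, 1, 2, 2, 2, 0, 0,
  0, 0, 2, 1, 2, 1, 0, 2, 0, 0, 0, 0, 0, 0, 0, 2, 1, 2, 1, 2, 1, 0, 2, 0, 0, 0, 0, 0, 2, 1, 2, 1, 2, 2, 1, 0, 0, 0, 0,
  2, 1, 2, 0, 0, 0, 0, 0, 0, 0, 0, 0, 2, 1, 2, 1, 2, 1, 0, 2, 1, 2, 0, 0, 2, 1, 2, 1, 0, 0, 0, 0, 0, 0, 0, 2, 1, 2, 1,
  2, 1, 0, 2]

theorem c3 : chkM 3 4 RR (idM 4) prog 320 18 = true := by
  rw [chkM_eq]
  decide +kernel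

theorem c4 : chkM 3 4 RR RA prog 320 10 = true := by
  rw [chkM_eq]
  decide +kernel

private noncomputable def _root_.Cfsg.Agent.LsF.f16d2d8_38 : {f // @Cfsg.Agent.Lib.PackMat.rep = f} := ⟨_, by first | (delta Cfsg.Agent.Lib.PackMat.rep; rewrite [Cfsg.Agent.LsF.nmul_pat, Cfsg.Agent.LsF.nsub_pat, Cfsg.Agent.LsF.ndiv_pat, Cfsg.Agent.LsF.npow_pat]; exact rfl) | exact rfl⟩
private noncomputable def _root_.Cfsg.Agent.LsF.f16d2d8_39 : {f // @Cfsg.Agent.Lib.PackMat.gmask = f} := ⟨_, by first | (delta Cfsg.Agent.Lib.PackMat.gmask; rewrite [Cfsg.Agent.LsF.f16d2d8_38.2, Cfsg.Agent.LsF.nmul_pat, Cfsg.Agent.LsF.nsub_pat, Cfsg.Agent.LsF.npow_pat]; exact rfl) | exact rfl⟩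
private noncomputable def _root_.Cfsg.Agent.LsF.f16d2d8_40 : {f // @Cfsg.Agent.Lib.PackMat.GMc = f} := ⟨_, by first | (delta Cfsg.Agent.Lib.PackMat.GMc; rewrite [Cfsg.Agent.LsF.f16d2d8_39.2]; exact rfl) | exact rfl⟩
private noncomputable def _root_.Cfsg.Agent.LsF.f16d2d8_41 : {f // @Cfsg.Agent.Lib.PackMat.FMc = f} := ⟨_, by first | (delta Cfsg.Agent.Lib.PackMat.FMc; rewrite [Cfsg.Agent.LsF.nadd_pat, Cfsg.Agent.LsF.nmul_pat, Cfsg.Agent.LsF.nsub_pat, Cfsg.Agent.LsF.npow_pat]; exact rfl) | exact rfl⟩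
private noncomputable def _root_.Cfsg.Agent.LsF.f16d2d8_42 : {f // @Cfsg.Agent.Lib.PackMat.LOc = f} := ⟨_, by first | (delta Cfsg.Agent.Lib.PackMat.LOc; rewrite [Cfsg.Agent.LsF.f16d2d8_38.2, Cfsg.Agent.LsF.nmul_pat, Cfsg.Agent.LsF.nsub_pat, Cfsg.Agent.LsF.npow_pat]; exact rfl) | exact rfl⟩
private noncomputable def _root_.Cfsg.Agent.LsF.f16d2d8_43 : {f // @Cfsg.Agent.Lib.PackMat.HIc = f} := ⟨_, by first | (delta Cfsg.Agent.Lib.PackMat.HIc; rewrite [Cfsg.Agent.LsF.f16d2d8_38.2, Cfsg.Agent.LsF.nmul_pat, Cfsg.Agent.LsF.nsub_pat, Cfsg.Agent.LsF.npow_pat]; exact rfl) | exact rfl⟩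
private noncomputable def _root_.Cfsg.Agent.LsF.f16d2d8_44 : {f // @Cfsg.Agent.Lib.PackMat.HTc = f} := ⟨_, by first | (delta Cfsg.Agent.Lib.PackMat.HTc; rewrite [Cfsg.Agent.LsF.f16d2d8_38.2, Cfsg.Agent.LsF.nmul_pat, Cfsg.Agent.LsF.nsub_pat, Cfsg.Agent.LsF.npow_pat]; exact rfl) | exact rfl⟩
private noncomputable def _root_.Cfsg.Agent.LsF.f16d2d8_45 : {f // @Cfsg.Agent.Lib.PackMat.withC = f} := ⟨_, by first | (delta Cfsg.Agent.Lib.PackMat.withC; rewrite [Cfsg.Agent.LsF.f16d2d8_40.2, Cfsg.Agent.LsF.f16d2d8_41.2, Cfsg.Agent.LsF.f16d2d8_42.2, Cfsg.Agent.LsF.f16d2d8_43.2, Cfsg.Agent.LsF.f16d2d8_44.2]; exact rfl) | exact rfl⟩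
private noncomputable def _root_.Cfsg.Agent.LsF.f16d2d8_46 : {f // @Cfsg.Agent.Lib.PackMat.unitRow = f} := ⟨_, by first | (delta Cfsg.Agent.Lib.PackMat.unitRow; rewrite [Cfsg.Agent.LsF.nmul_pat, Cfsg.Agent.LsF.nsub_pat, Cfsg.Agent.LsF.npow_pat]; exact rfl) | exact rfl⟩
private noncomputable def _root_.Cfsg.Agent.LsF.f16d2d8_66 : {f // @Cfsg.Agent.Lib.PackMat.foldK = f} := ⟨_, by first | (delta Cfsg.Agent.Lib.PackMat.foldK Nat.brecOn.go Nat.brecOn Cfsg.Agent.Lib.PackMat.foldK._f; (try delta Cfsg.Agent.Lib.PackMat.foldBoundIter.match_1); (try delta Nat.casesOn); first | dsimp -zeta only | exact rfl) | exact rfl⟩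
private noncomputable def _root_.Cfsg.Agent.LsF.f16d2d8_67 : {f // @Cfsg.Agent.Lib.PackMat.stepK = f} := ⟨_, by first | (delta Cfsg.Agent.Lib.PackMat.stepK; rewrite [Cfsg.Agent.LsF.f16d2d8_66.2]; exact rfl) | exact rfl⟩
private noncomputable def _root_.Cfsg.Agent.LsF.f16d2d8_68 : {f // @Cfsg.Agent.Lib.PackMat.runK = f} := ⟨_, by first | (delta Cfsg.Agent.Lib.PackMat.runK List.brecOn List.brecOn.go Cfsg.Agent.Lib.PackMat.runK._f; rewrite [Cfsg.Agent.LsF.f16d2d8_67.2]; (try delta Cfsg.Agent.Lib.PackMat.runK.match_1); (try delta List.casesOn); first | dsimp -zeta only | exact rfl) | exact rfl⟩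
private noncomputable def _root_.Cfsg.Agent.LsF.f16d2d8_69 : {f // @Cfsg.Agent.Lib.PackMat.checkEqK = f} := ⟨_, by first | (delta Cfsg.Agent.Lib.PackMat.checkEqK Cfsg.Agent.Lib.PackMat.checkEqK._f Nat.brecOn.go Nat.brecOn; rewrite [Cfsg.Agent.LsF.f16d2d8_68.2, Cfsg.Agent.LsF.cond_eq]; (try delta Cfsg.Agent.Lib.PackMat.foldBoundIter.match_1); (try delta Nat.casesOn); first | dsimp -zeta only | exact rfl) | exact rfl⟩
private noncomputable def _root_.Cfsg.Agent.LsF.f16d2d8_70 : {f // @Cfsg.Agent.Lib.PackMat.checkEq = f} := ⟨_, by first | (delta Cfsg.Agent.Lib.PackMat.checkEq; rewrite [Cfsg.Agent.LsF.f16d2d8_45.2, Cfsg.Agent.LsF.f16d2d8_46.2, Cfsg.Agent.LsF.f16d2d8_69.2, Cfsg.Agent.LsF.nadd_pat, Cfsg.Agent.LsF.cond_eq]; exact rfl) | exact rfl⟩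
private noncomputable def _root_.Cfsg.Agent.LsF.f16d2d8_71 : {f // @Cfsg.Agent.ONType.TupRow.eqM = f} := ⟨_, by first | (delta Cfsg.Agent.ONType.TupRow.eqM; rewrite [Cfsg.Agent.LsF.f16d2d8_70.2, Cfsg.Agent.LsF.lappend_pat, Cfsg.Agent.LsF.or_eq]; exact rfl) | exact rfl⟩
private noncomputable def _root_.Cfsg.Agent.LsF.f16d2d8_48 : {f // @Cfsg.Agent.SporadicB.ON45Rels.gens = f} := ⟨_, by first | (delta Cfsg.Agent.SporadicB.ON45Rels.gens; (try delta Cfsg.Agent.SporadicB.ON45Rels.gens.match_1); (try rewrite [Cfsg.Agent.LsF.instDecEq_eq, Cfsg.Agent.LsF.dite_eq]); exact rfl) | exact rfl⟩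
private noncomputable def _root_.Cfsg.Agent.LsF.f16d2d8_49 : {f // @Cfsg.Agent.SporadicB.ON45Word.gi = f} := ⟨_, by first | (delta Cfsg.Agent.SporadicB.ON45Word.gi; (try delta Cfsg.Agent.SporadicB.ON45Word.sl.match_1); (try delta Cfsg.Spor.ON.Gen.casesOn); exact rfl) | exact rfl⟩
private noncomputable def _root_.Cfsg.Agent.LsF.f16d2d8_50 : {f // @Cfsg.Agent.Schreier.ONRel.mats = f} := ⟨_, by first | (delta Cfsg.Agent.Schreier.ONRel.mats; rewrite [Cfsg.Agent.LsF.f16d2d8_48.2, Cfsg.Agent.LsF.f16d2d8_49.2, Cfsg.Agent.LsF.map_eq]; exact rfl) | exact rfl⟩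
private noncomputable def _root_.Cfsg.Agent.LsF.f16d2d8_72 : {f // @Cfsg.Agent.UGT.C.BalON.eqW = f} := ⟨_, by first | (delta Cfsg.Agent.UGT.C.BalON.eqW; rewrite [Cfsg.Agent.LsF.f16d2d8_71.2, Cfsg.Agent.LsF.f16d2d8_50.2]; exact rfl) | exact rfl⟩
private noncomputable def _root_.Cfsg.Agent.LsF.f16d2d8_52 : {f // @Cfsg.Agent.MO.S.ON3.fl = f} := ⟨_, by first | (delta Cfsg.Agent.MO.S.ON3.fl; rewrite [Cfsg.Agent.LsF.flatMap_eq, Cfsg.Agent.LsF.getD_eq]; exact rfl) | exact rfl⟩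
private noncomputable def _root_.Cfsg.Agent.LsF.f16d2d8_73 : {f // @Cfsg.Agent.MO.S.ON3.eqv = f} := ⟨_, by first | (delta Cfsg.Agent.MO.S.ON3.eqv; rewrite [Cfsg.Agent.LsF.f16d2d8_72.2, Cfsg.Agent.LsF.f16d2d8_52.2]; exact rfl) | exact rfl⟩
private noncomputable def _root_.Cfsg.Agent.LsF.f16d2d8_74 : {f // @Cfsg.Agent.ONType.TupRow.rowNe = f} := ⟨_, by first | (delta Cfsg.Agent.ONType.TupRow.rowNe; rewrite [Cfsg.Agent.LsF.f16d2d8_45.2, Cfsg.Agent.LsF.f16d2d8_68.2, Cfsg.Agent.LsF.f16d2d8_67.2, Cfsg.Agent.LsF.cond_eq]; exact rfl) | exact rfl⟩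
private noncomputable def _root_.Cfsg.Agent.LsF.f16d2d8_75 : {f // @Cfsg.Agent.KFacts.MulSpor.ON.mats = f} := ⟨_, by first | (delta Cfsg.Agent.KFacts.MulSpor.ON.mats; rewrite [Cfsg.Agent.LsF.f16d2d8_48.2, Cfsg.Agent.LsF.f16d2d8_49.2, Cfsg.Agent.LsF.map_eq]; exact rfl) | exact rfl⟩
theorem c5 : eqv es [6, 0] [0, 6] = true ∧ eqv es [6, 6, 6, 6, 6] [] = true ∧
    rowNe (mats (fl es [6, 2, 6, 6, 6, 6, 3])) (mats (fl es [3, 6, 2, 6, 6, 6, 6])) = true := by (refine of_decide_eq_true ?_; (try (rewrite [Cfsg.Agent.LsF.f16d2d8_73.2, Cfsg.Agent.LsF.f16d2d8_74.2, Cfsg.Agent.LsF.f16d2d8_75.2, Cfsg.Agent.LsF.f16d2d8_52.2, Cfsg.Agent.LsF.dAnd_eq, Cfsg.Agent.LsF.dBoolEq_eq, Cfsg.Agent.LsF.decide_eq])); decide +kernel)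

theorem card_V : 3 ^ 4 ≤ Nat.card (V (lt es) 4 0) := by
  have := finite_ON
  have h := (R04.ONThree.data hON.1).card_E R04.ONThree.ab_ne R04.ONThree.fe_ne R04.ONThree.a_ne R04.ONThree.f_ne
    (R04.ONThree.inv hON.1)
  refine h.ge.trans (card_le_of_le ?_)
  rintro _ ⟨i, j, k, l, rfl⟩
  have h1 : ∀ s t : Gen, on s * on t = w [s, t] := fun _ _ => by simp [w]
  have h2 : ∀ u v : List Gen, w u * w v * (w u)⁻¹ = w (u ++ v ++ iw u) := fun u v => by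
    rw [w_append, w_append, w_iw hON.1]
  refine mul_mem (mul_mem (pow_mem ?_ _) (pow_mem ?_ _)) (mul_mem (pow_mem ?_ _) (pow_mem ?_ _)) <;> rw [h1]
  · exact mem_V (i := 0) le_rfl (by decide)
  · exact (h2 _ _).symm ▸ mem_V (i := 1) (by decide) (by decide)
  · exact mem_V (i := 2) (by decide) (by decide)
  · exact (h2 _ _).symm ▸ mem_V (i := 3) (by decide) (by decide)

theorem card_N (Q : Sylow 3 ON) (hQ : (Q : Subgroup ON) = V (lt es) 4 0) :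
    Nat.card (normalizer (V (lt es) 4 0 : Set ON)) ≤ 3 ^ 4 * 320 := by
  have := finite_ON
  have hp := pc_of_chk (eqv_ok es) c0
  have hc : ∀ s ∈ V (lt es) 4 0, ∀ t ∈ V (lt es) 4 0, s * t = t * s := fun _ ha _ hb =>
    commutatorElement_eq_one_iff_mul_comm.1 ((V_le (H := ⊥) fun i _ _ => by omega) (hp.comm_le (commutator_mem_commutator ha hb)))
  have h0 : lt es 0 ∈ V (lt es) 4 0 := mem_V le_rfl (by decide)
  obtain ⟨a1, a2, a3⟩ := c5
  have h1 := card_le_orb _ h0 H210.On7.x1_ne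
  have h2 := rel_modEq Q (K := centralizer {lt es 0}) fun s hs => mem_centralizer_singleton_iff.2 (hc s (hQ ▸ hs) _ h0)
  have h3 := ((normalizer (V (lt es) 4 0 : Set ON)).subgroupOf (centralizer {lt es 0})).card_mul_index
  have h4 := le_relIndex (N := normalizer (V (lt es) 4 0 : Set ON)) (K := centralizer {lt es 0}) Nat.prime_five (a := lt es 6)
    (mem_centralizer_singleton_iff.2 (by simpa only [ev_cons, ev_nil, mul_one] using eqv_ok _ _ _ a1)) (fun h => wne a3 (by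
      have h5 := hc _ ((mem_normalizer_iff.1 h _).1 (mem_V (i := 2) (by decide) (by decide))) _
        (mem_V (i := 3) (by decide) (by decide))
      rw [← eq_inv_of_mul_eq_one_right ((ev_cons _ _ _).symm.trans (eqv_ok _ _ _ a2))] at h5
      simpa only [← ev_fl, ev_cons, ev_nil, mul_one, mul_assoc] using h5)) ((ev_replicate _ 6 5).symm.trans (eqv_ok _ _ _ a2))
  rw [hQ] at h2
  rw [hp.card_zero card_V] at h1
  rw [show Nat.card (centralizer ({lt es 0} : Set ON)) = 3240 from H210.On7.card_cent_three TAB.ON.ox1] at h3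
  change _ * relIndex _ _ = _ at h3
  generalize relIndex (normalizer (V (lt es) 4 0 : Set ON)) _ = t at h2 h3 h4
  have h5 : 10 ≤ t := by
    by_contra h6
    obtain rfl : t = 7 := by
      unfold Nat.ModEq at h2
      omega
    omega
  have h6 := (Nat.mul_le_mul_left _ h5).trans h3.le
  omega

end Three

open Three in
/-- **the row of `O'N` for the prime `3`** -/
theorem _root_.Cfsg.Agent.MO.S.on_1_3 : SmC 3 1 ON := by
  have := finite_ON
  have hp := pc_of_chk (eqv_ok es) c0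
  obtain ⟨Q, hQ⟩ := hp.sylow card_V (o := 5689080320) (hON.2.trans (by norm_num)) (by norm_num)
  obtain ⟨h1, h2⟩ := aut_ok c0 c2
  refine smC_one_two (out_al [.d]) fun _ => ⟨Q, hQ ▸ h1, ?_, ?_⟩
  · rw [hQ, k0_3, k0_pc (eqv_ok es) c0 (by decide) card_V c1 (card_N Q hQ) c3]
  · rw [hQ, f0_conj_mul, f0_3, fN_norm (loc_of_chk (eqv_ok es) c0 (by decide) card_V)
      ((hp.card_zero card_V).symm ▸ card_N Q hQ) (mts_of_nrms (eqv_ok es) c0 c1) h1 h2 c4]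

end Cfsg.Agent.MO.S.ON3
end

private theorem dce_8a366ce1cce7 : _root_.True := by
  try have : _root_.True := by simp only [_root_.Cfsg.Agent.MO.S.ON3.lt.eq_1]
  try have : _root_.True := by simp only [_root_.Cfsg.Agent.MO.S.Co1.Seven.wd.eq_1]
  exact _root_.True.intro
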